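import Groth.Agent.SepPencil.Main
import Groth.Agent.DimFormula.Field

/-!
# Generic combinations of functions with zero locus of codimension two
-/

set_option autoImplicit false

universe u v
open IntermediateField MvPolynomial
open scoped IntermediateField.algebraAdjoinAdjoin
noncomputable section

namespace Groth.Agent.SepPencil

variable {k A : Type u} [Field k] [CommRing A] [IsDomain A] [Algebra k A]

/-- If two dependent functions vanish on a prime, it is a component of the zero locus of one of them. -/
lemma mem_minimalPrimes_left {a b : A} (ha : a ≠ 0) {p : Ideal A} (hp : p ∈ (Ideal.span {a, b}).minimalPrimes)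
    (P : MvPolynomial (Fin 2) k) (hP0 : P ≠ 0) (hP : aeval ![a, b] P = 0) :
    p ∈ (Ideal.span {a}).minimalPrimes := by
  classical
  obtain ⟨hp1, hp2⟩ := hp
  haveI := hp1.1
  have hap : a ∈ p := hp1.2 (Ideal.subset_span (by simp))
  have hbp : b ∈ p := hp1.2 (Ideal.subset_span (by simp))
  refine ⟨⟨hp1.1, (Ideal.span_singleton_le_iff_mem _).2 hap⟩, fun q hq hqp => hp2 ⟨hq.1, ?_⟩ hqp⟩
  haveI := hq.1
  have haq : a ∈ q := hq.2 (Ideal.mem_span_singleton_self a)
  refine Ideal.span_le.2 fun z hz => ?_
  rcases hz with rfl | rfl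
  · exact haq
  -- remove powers of the first variable
  obtain ⟨e, P', hPe, hdvd⟩ : ∃ (e : ℕ) (P' : MvPolynomial (Fin 2) k), P = X 0 ^ e * P' ∧ ¬ X 0 ∣ P' := by
    obtain ⟨e, P', hne, h⟩ := WfDvdMonoid.max_power_factor hP0 ((MvPolynomial.X_prime (R := k) (i := (0 : Fin 2)))).irreducible
    exact ⟨e, P', h, hne⟩
  have hP' : aeval ![a, z] P' = 0 := by
    rw [hPe, map_mul, map_pow, aeval_X, mul_eq_zero] at hP
    exact hP.resolve_left (pow_ne_zero _ ha)
  let h : Polynomial k := aeval ![0, Polynomial.X] P'
  have hh : h ≠ 0 := by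
    intro h0
    refine hdvd ?_
    have e1 : (Ideal.Quotient.mkₐ k (Ideal.span {(X 0 : MvPolynomial (Fin 2) k)})) =
        (((Ideal.Quotient.mkₐ k (Ideal.span {(X 0 : MvPolynomial (Fin 2) k)})).comp
          (Polynomial.aeval (X 1 : MvPolynomial (Fin 2) k))).comp (aeval ![0, Polynomial.X])) := by
      refine MvPolynomial.algHom_ext fun i => ?_
      fin_cases i
      · simp [Ideal.Quotient.eq_zero_iff_mem.2 (Ideal.mem_span_singleton_self (X 0 : MvPolynomial (Fin 2) k))]
      · simp
    have e2 := DFunLike.congr_fun e1 P'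
    rw [AlgHom.comp_apply, show aeval ![0, Polynomial.X] P' = h from rfl, h0, map_zero] at e2
    exact Ideal.mem_span_singleton.1 (Ideal.Quotient.eq_zero_iff_mem.1 e2)
  have hz : Polynomial.aeval z h ∈ q := by
    have e1 : ((Ideal.Quotient.mkₐ k q).comp (Polynomial.aeval z)).comp (aeval ![0, Polynomial.X]) =
        (Ideal.Quotient.mkₐ k q).comp (aeval ![a, z]) := by
      refine MvPolynomial.algHom_ext fun i => ?_
      fin_cases i
      · simp [Ideal.Quotient.eq_zero_iff_mem.2 haq]
      · simp
    have e2 := DFunLike.congr_fun e1 P'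
    simp only [AlgHom.comp_apply, hP', map_zero] at e2
    exact Ideal.Quotient.eq_zero_iff_mem.1 e2
  obtain ⟨n, w, hw, hhn⟩ := WfDvdMonoid.max_power_factor hh Polynomial.irreducible_X
  rw [hhn, map_mul, map_pow, Polynomial.aeval_X] at hz
  rcases hq.1.mem_or_mem hz with h1 | h1
  · exact hq.1.mem_of_pow_mem _ h1
  exfalso
  have hw0 : w.coeff 0 ≠ 0 := fun h0 => hw (Polynomial.X_dvd_iff.2 h0)
  have h2 : algebraMap k A (w.coeff 0) ∈ p := by
    have h3 := hqp h1
    rw [← Polynomial.X_mul_divX_add w, map_add, map_mul, Polynomial.aeval_X, Polynomial.aeval_C] at h3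
    exact (Ideal.add_mem_iff_right _ (p.mul_mem_right _ hbp)).1 h3
  exact (inferInstance : p.IsPrime).ne_top (p.eq_top_of_isUnit_mem h2 ((isUnit_iff_ne_zero.2 hw0).map _))

/-- Functions with zero locus of codimension two are algebraically independent. -/
theorem algebraicIndependent_pair [Algebra.FiniteType k A] {a b : A} {p : Ideal A}
    (hp : p ∈ (Ideal.span {a, b}).minimalPrimes) (hdim : ringKrullDim (A ⧸ p) + 2 = ringKrullDim A) :
    AlgebraicIndependent k ![a, b] := by
  haveI : IsNoetherianRing A := Algebra.FiniteType.isNoetherianRing k A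
  haveI : p.IsPrime := hp.1.1
  obtain ⟨s, -, hs⟩ := DimFormula.exists_trdeg_eq_ringKrullDim k A
  have hsum := DimFormula.height_add_ringKrullDim_quotient k (⟨p, inferInstance⟩ : PrimeSpectrum A)
  have hnonneg : 0 ≤ ringKrullDim (A ⧸ p) := ringKrullDim_nonneg_of_nontrivial
  have hht : ¬ p.height ≤ 1 := by
    intro hle
    rw [hs] at hdim hsum
    obtain ⟨e, he⟩ : ∃ e : ℕ, (p.height) = e := ENat.ne_top_iff_exists.1 (ne_top_of_le_ne_top ENat.one_ne_top hle) |>.imp fun _ h => h.symm
    have hle' : e ≤ 1 := by rw [he] at hle; exact_mod_cast hle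
    simp only [he] at hsum
    cases hd : ringKrullDim (A ⧸ p) with
    | bot => rw [hd] at hnonneg; simp at hnonneg
    | coe D =>
      rw [hd] at hdim hsum
      have h1 : D + 2 = (s : ℕ∞) := WithBot.coe_inj.1 (by rw [WithBot.coe_add]; exact hdim)
      have h2 : (e : ℕ∞) + D = (s : ℕ∞) := WithBot.coe_inj.1 (by rw [WithBot.coe_add]; exact hsum)
      cases D with
      | top => simp at h1
      | coe m =>
        norm_cast at h1 h2
        omega
  rw [algebraicIndependent_iff]
  intro P hP
  by_contra hP0
  by_cases ha : a = 0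
  · subst ha
    by_cases hb : b = 0
    · subst hb
      refine hht ?_
      have h0 : Ideal.span {(0 : A), 0} = ⊥ := by simp
      rw [h0] at hp
      have : p = ⊥ := le_bot_iff.1 (hp.2 ⟨Ideal.isPrime_bot, le_rfl⟩ bot_le)
      subst this
      simp
    · have hp' : p ∈ (Ideal.span {b, (0 : A)}).minimalPrimes := by rwa [Ideal.span_pair_comm]
      refine hht (Ideal.height_le_one_of_isPrincipal_of_mem_minimalPrimes (Ideal.span {b}) p
        (mem_minimalPrimes_left hb hp' (rename (Equiv.swap 0 1) P) ?_ ?_))
      · exact fun h => hP0 (rename_injective _ (Equiv.injective _) (h.trans (map_zero _).symm))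
      · rw [aeval_rename, show ![b, (0 : A)] ∘ Equiv.swap (0 : Fin 2) 1 = ![0, b] by
          funext i; fin_cases i <;> simp]
        exact hP
  · exact hht (Ideal.height_le_one_of_isPrincipal_of_mem_minimalPrimes (Ideal.span {a}) p
      (mem_minimalPrimes_left ha hp P hP0 hP))

/-- Generic combinations of functions, two of which are independent. -/
theorem algebraicIndependent_generic {K : Type u} [Field K] [Algebra k K] {m : ℕ} (g : Fin (m + 2) → K)
    (hg : AlgebraicIndependent k ![g 0, g 1]) :
    AlgebraicIndependent k (Sum.elim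
      (fun i : Fin (m + 2) => algebraMap (MvPolynomial (Fin (m + 2)) K) (FractionRing (MvPolynomial (Fin (m + 2)) K)) (X i))
      ![∑ i, algebraMap K (FractionRing (MvPolynomial (Fin (m + 2)) K)) (g i) *
          algebraMap (MvPolynomial (Fin (m + 2)) K) (FractionRing (MvPolynomial (Fin (m + 2)) K)) (X i),
        algebraMap K (FractionRing (MvPolynomial (Fin (m + 2)) K)) (g 0)]) := by
  classical
  let Ω := FractionRing (MvPolynomial (Fin (m + 2)) K)
  let x : Fin (m + 2) → Ω := fun i => algebraMap (MvPolynomial (Fin (m + 2)) K) Ω (X i)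
  let a : Ω := algebraMap K Ω (g 0)
  let b : Ω := algebraMap K Ω (g 1)
  let ξ : Ω := ∑ i, algebraMap K Ω (g i) * x i
  have hx : AlgebraicIndependent K x :=
    (algebraicIndependent_X (Fin (m + 2)) K).map' (f := IsScalarTower.toAlgHom K (MvPolynomial (Fin (m + 2)) K) Ω)
      (IsFractionRing.injective _ _)
  -- all parameters are independent
  have hab : AlgebraicIndependent k ![a, b] := by
    have := hg.map' (f := IsScalarTower.toAlgHom k K Ω) (algebraMap K Ω).injective
    convert this using 1
    funext i; fin_cases i <;> rfl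
  let R := Algebra.adjoin k (Set.range ![a, b])
  let C : Subalgebra k Ω := (IsScalarTower.toAlgHom k K Ω).range
  have hR : R ≤ C := Algebra.adjoin_le (by rintro _ ⟨i, rfl⟩; fin_cases i; exacts [⟨g 0, rfl⟩, ⟨g 1, rfl⟩])
  have hxR : AlgebraicIndependent R x := by
    rw [algebraicIndependent_iff]
    intro P hP
    let eK : K ≃ₐ[k] C := AlgEquiv.ofInjective (IsScalarTower.toAlgHom k K Ω) (algebraMap K Ω).injective
    let φ : R →+* K := eK.symm.toRingEquiv.toRingHom.comp (Subalgebra.inclusion hR).toRingHom
    have hφ : (algebraMap K Ω).comp φ = algebraMap R Ω := RingHom.ext fun r => by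
      have := congrArg Subtype.val (eK.apply_symm_apply (Subalgebra.inclusion hR r))
      exact this
    have h1 : MvPolynomial.map φ P = 0 := by
      refine algebraicIndependent_iff.1 hx _ ?_
      rw [aeval_def, eval₂_map, hφ]
      exact hP
    exact MvPolynomial.map_injective φ (eK.symm.injective.comp (Subalgebra.inclusion_injective hR)) (h1.trans (map_zero _).symm)
  have hall : AlgebraicIndependent k (Sum.elim x ![a, b]) := AlgebraicIndependent.sumElim hab hxR
  -- the base field and the field containing the coefficients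
  let X' : Set Ω := x '' {1}ᶜ
  let E' : IntermediateField k Ω := adjoin k (X' ∪ {a})
  have hbE : Transcendental E' b := by
    have h := hall.transcendental_adjoin (i := Sum.inr 1) (s := {Sum.inr (1 : Fin 2)}ᶜ) (by simp)
    refine fun h' => transcendental_adjoin h (isAlgebraic_mono (adjoin.mono k _ _ ?_) h')
    rintro z (⟨i, -, rfl⟩ | rfl)
    · exact ⟨Sum.inl i, by simp, rfl⟩
    · exact ⟨Sum.inr 0, by simp, rfl⟩
  let K' : IntermediateField K Ω := adjoin K X'
  have ha' : ∀ c : K, algebraMap K Ω c ∈ K' := fun c => K'.algebraMap_mem c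
  have hEK : E' ≤ K'.restrictScalars k := adjoin_le_iff.2 (Set.union_subset (fun z hz => subset_adjoin K _ hz)
    (Set.singleton_subset_iff.2 (ha' _)))
  let S : IntermediateField E' Ω := extendScalars hEK
  have ht : Transcendental S (x 1) := fun h =>
    transcendental_adjoin (hx.transcendental_adjoin (i := 1) (s := ({1}ᶜ : Set (Fin (m + 2)))) (by simp)) h
  let r : Ω := ∑ i ∈ Finset.univ.erase (1 : Fin (m + 2)), algebraMap K Ω (g i) * x i
  have hr : r ∈ K' := sum_mem fun i hi => mul_mem (ha' _) (subset_adjoin K _ ⟨i, Finset.ne_of_mem_erase hi, rfl⟩)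
  have hξr : ξ = r + b * x 1 := by
    show ∑ i, algebraMap K Ω (g i) * x i = _
    rw [← Finset.sum_erase_add _ _ (Finset.mem_univ (1 : Fin (m + 2)))]
  have hmain : Transcendental (adjoin E' {x 1}) ξ := by
    intro halg
    have halg' : IsAlgebraic (Algebra.adjoin E' {x 1}) ξ := isAlgebraic_adjoin_iff.1 halg
    let f : Polynomial S := Polynomial.C ⟨r, hr⟩ + Polynomial.C ⟨b, ha' _⟩ * Polynomial.X
    have hf : Polynomial.aeval (x 1) f = ξ := by
      rw [hξr]; simp [f]
    obtain ⟨P, hP0, hP⟩ := halg'
    have hsurj : Function.Surjective (AlgHom.codRestrict (Polynomial.aeval (x 1) : Polynomial E' →ₐ[E'] Ω) (Algebra.adjoin E' {x 1})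
        fun p => Polynomial.aeval_mem_adjoin_singleton E' (x 1)) := by
      rintro ⟨z, hz⟩
      have hz' := hz
      simp only [Algebra.adjoin_singleton_eq_range_aeval] at hz'
      obtain ⟨p, hp⟩ := hz'
      exact ⟨p, Subtype.ext hp⟩
    obtain ⟨P', rfl⟩ := Polynomial.map_surjective (AlgHom.codRestrict (Polynomial.aeval (x 1) : Polynomial E' →ₐ[E'] Ω)
      (Algebra.adjoin E' {x 1}) fun p => Polynomial.aeval_mem_adjoin_singleton E' (x 1)).toRingHom hsurj P
    have hcoef := isAlgebraic_coeff f.natDegree f le_rfl ⟨P', fun h => hP0 (by rw [h, Polynomial.map_zero]),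
      transcendental_iff_injective.1 ht (by
        rw [map_zero]
        show (Polynomial.aeval (x 1) : Polynomial S →ₐ[S] Ω).toRingHom _ = 0
        rw [Polynomial.hom_eval₂, show (Polynomial.aeval (x 1) : Polynomial S →ₐ[S] Ω).toRingHom f = ξ from hf]
        rw [Polynomial.aeval_def, Polynomial.eval₂_map] at hP
        refine Eq.trans ?_ hP
        congr 1
        exact RingHom.ext fun p => Polynomial.aeval_map_algebraMap S (x 1) p)⟩ 1
    rw [show f.coeff 1 = (⟨b, ha' _⟩ : S) by simp [f]] at hcoef
    exact hbE (hcoef.algHom (IsScalarTower.toAlgHom E' S Ω) : IsAlgebraic E' b)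
  -- assemble
  have h3 : AlgebraicIndependent k (Sum.elim x (fun _ : Unit => a)) := by
    have h := hall.comp (Sum.map id fun _ : Unit => (0 : Fin 2)) (by
      rintro (i | u) (j | w) h <;> simp_all)
    convert h using 1
    funext i; rcases i with i | u <;> rfl
  have h4 : AlgebraicIndependent k (fun o : Option (Fin (m + 2) ⊕ Unit) => o.elim ξ (Sum.elim x fun _ => a)) := by
    refine (h3.option_iff_transcendental ξ).2 fun h => hmain ?_
    have hle : adjoin k (Set.range (Sum.elim x fun _ : Unit => a)) ≤ (adjoin E' {x 1}).restrictScalars k := by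
      rw [adjoin_adjoin_left]
      refine adjoin.mono k _ _ ?_
      rintro _ ⟨(i | u), rfl⟩
      · by_cases hi : i = 1
        · exact Or.inr (by simp [hi])
        · exact Or.inl (Or.inl ⟨i, hi, rfl⟩)
      · exact Or.inl (Or.inr rfl)
    exact isAlgebraic_mono (E := k) (L₂ := (adjoin E' {x 1}).restrictScalars k) hle (isAlgebraic_adjoin_iff.2 h)
  have h5 := h4.comp (Sum.elim (fun i => some (Sum.inl i)) ![none, some (Sum.inr ())]) (by
    rintro (i | i) (j | j) h
    · simp_all
    · fin_cases j <;> simp at h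
    · fin_cases i <;> simp at h
    · fin_cases i <;> fin_cases j <;> simp_all)
  convert h5 using 1
  funext i
  rcases i with i | i
  · rfl
  · fin_cases i <;> rfl

end Groth.Agent.SepPencil
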