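import Mathlib
import Groth.Agent.GeomConn.Pieces
import Groth.Agent.S2500

/-!
# Geometrically irreducible field extensions
-/

set_option autoImplicit false
set_option backward.isDefEq.respectTransparency false

universe u
open AlgebraicGeometry CategoryTheory CategoryTheory.Limits TensorProduct

noncomputable section

namespace Groth.Agent.SepPencil

/-- The base of a geometrically irreducible field extension is separably closed in it. -/
theorem mem_bot_of_geometricallyIrreducible {k K : Type u} [Field k] [Field K] [Algebra k K]
    [GeometricallyIrreducible (Spec.map (CommRingCat.ofHom (algebraMap k K)))] (a : K) (ha : IsSeparable k a) :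
    a ∈ (⊥ : IntermediateField k K) := by
  let E := IntermediateField.adjoin k {a}
  haveI : FiniteDimensional k E := IntermediateField.adjoin.finiteDimensional ha.isIntegral
  haveI : Algebra.IsSeparable k E := (IntermediateField.isSeparable_adjoin_simple_iff_isSeparable k K).2 ha
  haveI : IrreducibleSpace ↥(pullback (Spec.map (CommRingCat.ofHom (algebraMap k K)))
      (Spec.map (CommRingCat.ofHom (algebraMap k E)))) :=
    GeometricallyIrreducible.geometrically_irreducibleSpace (f := Spec.map (CommRingCat.ofHom (algebraMap k K)))
      _ _ _ (.of_hasPullback _ _)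
  haveI : IrreducibleSpace (PrimeSpectrum (K ⊗[k] E)) :=
    (pullbackSpecIso k K E).hom.homeomorph.irreducibleSpace_iff.1 ‹_›
  haveI : Algebra.FormallyUnramified k E := Algebra.FormallyUnramified.of_isSeparable k E
  haveI : _root_.IsReduced (K ⊗[k] E) := Algebra.FormallyUnramified.isReduced_of_field K (K ⊗[k] E)
  have h1 : (nilradical (K ⊗[k] E)).IsPrime := PrimeSpectrum.irreducibleSpace_iff_isPrime_nilradical.1 ‹_›
  rw [nilradical_eq_zero] at h1
  haveI : (⊥ : Ideal (K ⊗[k] E)).IsPrime := h1
  haveI : IsDomain (K ⊗[k] E) := IsDomain.of_bot_isPrime (K ⊗[k] E)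
  haveI : Module.Finite K (K ⊗[k] E) := inferInstance
  letI := (isField_of_isIntegral_of_isField' (R := K) (S := K ⊗[k] E) (Field.toIsField K)).toField
  let m : K ⊗[k] E →ₐ[K] K := Algebra.TensorProduct.lift (AlgHom.id K K) E.val fun _ _ => Commute.all _ _
  have hm : Function.Injective m.toLinearMap := RingHom.injective m.toRingHom
  have hle := LinearMap.finrank_le_finrank_of_injective hm
  rw [Module.finrank_self, Module.finrank_baseChange] at hle
  have hpos : 0 < Module.finrank k E := Module.finrank_pos
  exact IntermediateField.finrank_adjoin_simple_eq_one_iff.1 (show Module.finrank k E = 1 by omega)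

/-- An extension in which the base is separably closed is geometrically irreducible. -/
theorem geometricallyIrreducible_of_sepClosed {k K : Type u} [Field k] [Field K] [Algebra k K]
    (h : ∀ a : K, IsSeparable k a → a ∈ (⊥ : IntermediateField k K)) :
    GeometricallyIrreducible (Spec.map (CommRingCat.ofHom (algebraMap k K))) := by
  have h' : separableClosure k K = ⊥ :=
    eq_bot_iff.2 fun a ha => h a (mem_separableClosure_iff.1 ha)
  let f := Spec.map (CommRingCat.ofHom (algebraMap k K))
  let g := Spec.map (CommRingCat.ofHom (algebraMap k (AlgebraicClosure k)))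
  haveI := GeomConn.irreducibleSpace_pullback_primary (K := AlgebraicClosure k) h'
  haveI : GeometricallyIrreducible (pullback.snd f g) := Groth.Agent.S2500.result _
  haveI : Surjective g := ⟨fun t => ⟨IsLocalRing.closedPoint _, @Subsingleton.elim (PrimeSpectrum k) inferInstance _ _⟩⟩
  exact ⟨GeomConn.geometrically_descends (IrreducibleSpace ·)
    (fun A B q _ hA => GeomConn.irreducibleSpace_of_surjective A B q hA) f g
    (GeometricallyIrreducible.geometrically_irreducibleSpace (f := pullback.snd f g))⟩

end Groth.Agent.SepPencil
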