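import Groth.Agent.SepPencil.Pencil

/-!
# Generic linear combinations keep the base separably closed
-/

set_option autoImplicit false

universe u v
open IntermediateField MvPolynomial
open scoped IntermediateField.algebraAdjoinAdjoin
noncomputable section

namespace Groth.Agent.SepPencil

variable (k K : Type u) [Field k] [Field K] [Algebra k K]

/-- A purely transcendental extension keeps a separably closed subfield separably closed. -/
lemma sepClosed_rational (hk : ∀ a : K, IsSeparable k a → a ∈ (⊥ : IntermediateField k K)) (σ : Type) [Fintype σ]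
    [DecidableEq σ] (β : FractionRing (MvPolynomial σ K))
    (hβ : IsSeparable (adjoin k (Set.range fun i : σ => algebraMap (MvPolynomial σ K) (FractionRing (MvPolynomial σ K)) (X i))) β) :
    β ∈ adjoin k (Set.range fun i : σ => algebraMap (MvPolynomial σ K) (FractionRing (MvPolynomial σ K)) (X i)) := by
  classical
  let Ω := FractionRing (MvPolynomial σ K)
  let x : σ → Ω := fun i => algebraMap (MvPolynomial σ K) Ω (X i)
  have hx : AlgebraicIndependent K x :=
    (algebraicIndependent_X σ K).map' (f := IsScalarTower.toAlgHom K (MvPolynomial σ K) Ω) (IsFractionRing.injective _ _)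
  let C : IntermediateField k Ω := (IsScalarTower.toAlgHom k K Ω).fieldRange
  -- one variable at a time
  have key : ∀ S : Finset σ, ∀ β ∈ (adjoin K (x '' S)).restrictScalars k,
      IsSeparable (adjoin k (x '' S)) β → β ∈ adjoin k (x '' S) := by
    intro S
    induction S using Finset.induction_on with
    | empty =>
      intro β hβ hsep
      rw [Finset.coe_empty, Set.image_empty] at hsep ⊢
      rw [Finset.coe_empty, Set.image_empty, mem_restrictScalars, adjoin_empty, IntermediateField.mem_bot] at hβ
      obtain ⟨a, rfl⟩ := hβ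
      rw [adjoin_empty] at hsep ⊢
      haveI : Algebra.IsSeparable k (⊥ : IntermediateField k Ω) :=
        AlgEquiv.Algebra.isSeparable (botEquiv k Ω).symm
      have h1 : IsSeparable k (algebraMap K Ω a) := IsSeparable.of_algebra_isSeparable_of_isSeparable k hsep
      have h2 : IsSeparable k a := by
        rw [IsSeparable, ← minpoly.algHom_eq (IsScalarTower.toAlgHom k K Ω) (algebraMap K Ω).injective]
        exact h1
      obtain ⟨b, hb⟩ := IntermediateField.mem_bot.1 (hk a h2)
      exact IntermediateField.mem_bot.2 ⟨b, by rw [IsScalarTower.algebraMap_apply k K Ω, hb]⟩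
    | insert i S hi ih =>
      intro β hβ hsep
      let A := adjoin k (x '' S)
      let B₀ := (adjoin K (x '' S)).restrictScalars k
      have hAB : A ≤ B₀ := adjoin_le_iff.2 fun z hz => subset_adjoin K _ hz
      have hti : Transcendental (adjoin K (x '' S)) (x i) :=
        transcendental_adjoin (hx.transcendental_adjoin (i := i) (s := (S : Set σ)) (by simpa using hi))
      have htB : Transcendental (extendScalars hAB) (x i) := fun h => hti h
      have hK : ∀ a ∈ extendScalars hAB, IsSeparable A a → a ∈ (⊥ : IntermediateField A Ω) := fun a ha hs =>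
        IntermediateField.mem_bot.2 ⟨⟨a, ih a ha hs⟩, rfl⟩
      have hins : adjoin k (x '' (insert i S : Finset σ)) = (adjoin A {x i}).restrictScalars k := by
        rw [adjoin_adjoin_left, Finset.coe_insert, Set.image_insert_eq, Set.union_singleton]
      have hβB : β ∈ adjoin (extendScalars hAB) {x i} := by
        rw [mem_restrictScalars, Finset.coe_insert, Set.image_insert_eq, ← Set.union_singleton,
          ← adjoin_adjoin_left, mem_restrictScalars] at hβ
        exact hβ
      have hsep' : IsSeparable (adjoin A {x i}) β :=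
        isSeparable_map (E' := A) (RingHom.id Ω) (L₂ := adjoin A {x i}) (fun z hz => by rw [hins] at hz; exact hz) hsep
      have := mem_adjoin_of_isSeparable (extendScalars hAB) hK htB hβB hsep'
      rw [hins]
      exact this
  have htop : adjoin K (x '' (Finset.univ : Finset σ)) = ⊤ := by
    refine eq_top_iff.2 fun z _ => ?_
    obtain ⟨p, q, -, rfl⟩ := IsFractionRing.div_surjective (A := MvPolynomial σ K) z
    have hmem : ∀ p : MvPolynomial σ K, algebraMap (MvPolynomial σ K) Ω p ∈ adjoin K (x '' (Finset.univ : Finset σ)) := by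
      intro p
      induction p using MvPolynomial.induction_on with
      | C c =>
        rw [← MvPolynomial.algebraMap_eq, ← IsScalarTower.algebraMap_apply]
        exact (adjoin K _).algebraMap_mem c
      | add p q hp hq => rw [map_add]; exact add_mem hp hq
      | mul_X p i hp => rw [map_mul]; exact mul_mem hp (subset_adjoin K _ ⟨i, Finset.mem_univ i, rfl⟩)
    exact div_mem (hmem p) (hmem q)
  have h := key Finset.univ β (by rw [htop]; trivial)
  rw [Finset.coe_univ, Set.image_univ] at h
  exact h hβ

variable {k K}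

/-- **Generic linear combinations.** If `k` is separably closed in `K`, then `k(x, ∑ gᵢxᵢ)` is separably closed in
`K(x)`, provided it does not contain a generic element of the span of the `gᵢ` algebraically. -/
theorem mem_adjoin_generic (hfg : Algebra.EssFiniteType k K)
    (hk : ∀ a : K, IsSeparable k a → a ∈ (⊥ : IntermediateField k K)) {n : ℕ} (g : Fin n → K) (c : Fin n → k)
    (hind : AlgebraicIndependent k (Sum.elim
        (fun i : Fin n => algebraMap (MvPolynomial (Fin n) K) (FractionRing (MvPolynomial (Fin n) K)) (X i))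
        ![∑ i, algebraMap K (FractionRing (MvPolynomial (Fin n) K)) (g i) * algebraMap (MvPolynomial (Fin n) K) (FractionRing (MvPolynomial (Fin n) K)) (X i),
          algebraMap K (FractionRing (MvPolynomial (Fin n) K)) (∑ i, c i • g i)]))
    (β : FractionRing (MvPolynomial (Fin n) K))
    (hβ : IsSeparable (adjoin k (Set.range (fun i : Fin n => algebraMap (MvPolynomial (Fin n) K) (FractionRing (MvPolynomial (Fin n) K)) (X i)) ∪
        {∑ i, algebraMap K (FractionRing (MvPolynomial (Fin n) K)) (g i) * algebraMap (MvPolynomial (Fin n) K) (FractionRing (MvPolynomial (Fin n) K)) (X i)})) β) :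
    β ∈ adjoin k (Set.range (fun i : Fin n => algebraMap (MvPolynomial (Fin n) K) (FractionRing (MvPolynomial (Fin n) K)) (X i)) ∪
        {∑ i, algebraMap K (FractionRing (MvPolynomial (Fin n) K)) (g i) * algebraMap (MvPolynomial (Fin n) K) (FractionRing (MvPolynomial (Fin n) K)) (X i)}) := by
  classical
  let Ω := FractionRing (MvPolynomial (Fin n) K)
  let P' := MvPolynomial (Option (Fin n)) K
  let Ω' := FractionRing P'
  let x : Fin n → Ω := fun i => algebraMap (MvPolynomial (Fin n) K) Ω (X i)
  let ξ : Ω := ∑ i, algebraMap K Ω (g i) * x i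
  let η : Ω := algebraMap K Ω (∑ i, c i • g i)
  let x' : Option (Fin n) → Ω' := fun i => algebraMap P' Ω' (X i)
  let s : Ω' := x' none
  have hren : Function.Injective ((IsScalarTower.toAlgHom K P' Ω').comp (rename (some : Fin n → Option (Fin n)))) :=
    (IsFractionRing.injective P' Ω').comp (rename_injective _ (Option.some_injective _))
  let j : Ω →ₐ[K] Ω' := IsFractionRing.liftAlgHom hren
  have hjx : ∀ i, j (x i) = x' (some i) := fun i => by
    show IsFractionRing.lift hren (algebraMap (MvPolynomial (Fin n) K) Ω (X i)) = _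
    rw [IsFractionRing.lift_algebraMap]
    simp [x', P']
  let ξ' : Ω' := ∑ i, algebraMap K Ω' (g i) * x' (some i)
  let η' : Ω' := algebraMap K Ω' (∑ i, c i • g i)
  have hjξ : j ξ = ξ' := by simp [ξ, ξ', map_sum, hjx]
  have hjη : j η = η' := by simp only [η, η', AlgHom.commutes]
  have hjk : ∀ a : k, j (algebraMap k Ω a) = algebraMap k Ω' a := fun a => by
    rw [IsScalarTower.algebraMap_apply k K Ω, AlgHom.commutes, ← IsScalarTower.algebraMap_apply]
  let jk : Ω →ₐ[k] Ω' := { toRingHom := j.toRingHom, commutes' := hjk }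
  -- the new variable is transcendental over the image
  have hx' : AlgebraicIndependent K x' :=
    (algebraicIndependent_X (Option (Fin n)) K).map' (f := IsScalarTower.toAlgHom K P' Ω') (IsFractionRing.injective _ _)
  have hsK : Transcendental (adjoin K (x' '' {none}ᶜ)) s :=
    transcendental_adjoin (hx'.transcendental_adjoin (i := none) (by simp))
  have hrange : ∀ z : Ω, j z ∈ adjoin K (x' '' {none}ᶜ) := by
    intro z
    obtain ⟨p, q, -, rfl⟩ := IsFractionRing.div_surjective (A := MvPolynomial (Fin n) K) z
    have hmem : ∀ p : MvPolynomial (Fin n) K, j (algebraMap (MvPolynomial (Fin n) K) Ω p) ∈ adjoin K (x' '' {none}ᶜ) := by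
      intro p
      induction p using MvPolynomial.induction_on with
      | C a =>
        rw [← MvPolynomial.algebraMap_eq, ← IsScalarTower.algebraMap_apply, AlgHom.commutes]
        exact (adjoin K _).algebraMap_mem a
      | add p q hp hq => rw [map_add, map_add]; exact add_mem hp hq
      | mul_X p i hp =>
        rw [map_mul, map_mul, show j (algebraMap (MvPolynomial (Fin n) K) Ω (X i)) = x' (some i) from hjx i]
        exact mul_mem hp (subset_adjoin K _ ⟨some i, by simp, rfl⟩)
    rw [map_div₀]
    exact div_mem (hmem p) (hmem q)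
  -- independence of all parameters
  let fam : Fin n ⊕ Fin 2 → Ω' := jk ∘ Sum.elim x ![ξ, η]
  have hfam : AlgebraicIndependent k fam := hind.map' (f := jk) jk.injective
  have hrf : ∀ i, fam i ∈ (adjoin K (x' '' {none}ᶜ)).restrictScalars k := fun i => hrange _
  have hall : AlgebraicIndependent k (fun o : Option (Fin n ⊕ Fin 2) => o.elim s fam) := by
    refine (hfam.option_iff_transcendental s).2 fun h => hsK ?_
    have hle : adjoin k (Set.range fam) ≤ (adjoin K (x' '' {none}ᶜ)).restrictScalars k :=
      adjoin_le_iff.2 (Set.range_subset_iff.2 hrf)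
    exact isAlgebraic_mono hle (isAlgebraic_adjoin_iff.2 h)
  let E₀ : IntermediateField k Ω' := adjoin k (Set.range x')
  let All := fun o : Option (Fin n ⊕ Fin 2) => o.elim s fam
  have hE₀sub : ∀ (S : Set (Option (Fin n ⊕ Fin 2))), none ∈ S → (∀ i, some (Sum.inl i) ∈ S) →
      Set.range x' ⊆ All '' S := by
    rintro S h1 h2 _ ⟨(_ | i), rfl⟩
    · exact ⟨none, h1, rfl⟩
    · exact ⟨some (Sum.inl i), h2 i, hjx i⟩
  have hξtr : Transcendental (adjoin E₀ {η'}) ξ' := by
    intro h
    have h1 : Transcendental (adjoin k (All '' {some (Sum.inr 0)}ᶜ)) (All (some (Sum.inr 0))) :=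
      transcendental_adjoin (hall.transcendental_adjoin (by simp))
    refine h1 ?_
    rw [show All (some (Sum.inr 0)) = ξ' from hjξ]
    have hle : (adjoin E₀ {η'}).restrictScalars k ≤ adjoin k (All '' {some (Sum.inr 0)}ᶜ) := by
      rw [adjoin_adjoin_left]
      refine adjoin.mono k _ _ (Set.union_subset (hE₀sub _ (by simp) (by simp)) ?_)
      rintro _ rfl
      exact ⟨some (Sum.inr 1), by simp, hjη⟩
    exact isAlgebraic_mono hle h
  have hηtr : Transcendental E₀ η' := by
    intro h
    have h1 : Transcendental (adjoin k (All '' {some (Sum.inr 1)}ᶜ)) (All (some (Sum.inr 1))) :=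
      transcendental_adjoin (hall.transcendental_adjoin (by simp))
    refine h1 ?_
    rw [show All (some (Sum.inr 1)) = η' from hjη]
    exact isAlgebraic_mono (adjoin.mono k _ _ (hE₀sub _ (by simp) (by simp))) h
  have hE₀ : ∀ a : Ω', IsSeparable E₀ a → a ∈ (⊥ : IntermediateField E₀ Ω') := fun a ha =>
    IntermediateField.mem_bot.2 ⟨⟨a, sepClosed_rational k K hk (Option (Fin n)) a ha⟩, rfl⟩
  haveI : Algebra.EssFiniteType K P' := inferInstance
  haveI : Algebra.EssFiniteType P' Ω' := Algebra.EssFiniteType.of_isLocalization Ω' (nonZeroDivisors P')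
  haveI : Algebra.EssFiniteType K Ω' := Algebra.EssFiniteType.comp K P' Ω'
  haveI : Algebra.EssFiniteType k Ω' := Algebra.EssFiniteType.comp k K Ω'
  haveI : Algebra.EssFiniteType E₀ Ω' := Algebra.EssFiniteType.of_comp k E₀ Ω'
  -- powers of the new variable
  let T : Set E₀ := Set.range fun e : ℕ => (⟨s, subset_adjoin k _ ⟨none, rfl⟩⟩ : E₀) ^ e
  have hT : T.Infinite := by
    refine Set.infinite_range_of_injective fun e e' he => ?_
    have h1 : s ^ e = s ^ e' := congrArg Subtype.val he
    by_contra hne
    have hp : (X none : P') ^ e = X none ^ e' := IsFractionRing.injective P' Ω' (by rw [map_pow, map_pow]; exact h1)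
    rw [X_pow_eq_monomial, X_pow_eq_monomial] at hp
    exact hne (Finsupp.single_injective none ((monomial_left_inj one_ne_zero).1 hp))
  obtain ⟨t, ⟨e, rfl⟩, ht⟩ := exists_separably_closed hE₀ ξ' η' hηtr hξtr T hT
  -- the shear
  let f : P' →ₐ[K] P' := aeval fun o : Option (Fin n) =>
    o.elim (X none) fun i => X (some i) + C (algebraMap k K (c i)) * X none ^ e
  let f' : P' →ₐ[K] P' := aeval fun o : Option (Fin n) =>
    o.elim (X none) fun i => X (some i) - C (algebraMap k K (c i)) * X none ^ e
  let φ : P' ≃ₐ[K] P' := AlgEquiv.ofAlgHom f f'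
    (MvPolynomial.algHom_ext fun o => by rcases o with _ | i <;> simp [f, f', P'])
    (MvPolynomial.algHom_ext fun o => by rcases o with _ | i <;> simp [f, f', P'])
  let σ : Ω' →+* Ω' := IsFractionRing.lift (g := (algebraMap P' Ω').comp φ.toRingEquiv.toRingHom)
    ((IsFractionRing.injective P' Ω').comp φ.injective)
  have hσP : ∀ p, σ (algebraMap P' Ω' p) = algebraMap P' Ω' (φ p) := fun p => IsFractionRing.lift_algebraMap _ p
  have hσK : ∀ a : K, σ (algebraMap K Ω' a) = algebraMap K Ω' a := fun a => by
    rw [IsScalarTower.algebraMap_apply K P' Ω', hσP, AlgEquiv.commutes]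
  have hσs : σ s = s := by
    show σ (algebraMap P' Ω' (X none)) = _
    rw [hσP]
    simp [φ, f, s, x', P']
  have hσx : ∀ i, σ (x' (some i)) = x' (some i) + algebraMap K Ω' (algebraMap k K (c i)) * s ^ e := fun i => by
    show σ (algebraMap P' Ω' (X (some i))) = _
    rw [hσP, IsScalarTower.algebraMap_apply K P' Ω']
    simp [φ, f, s, x', P']
  let σk : Ω' →ₐ[k] Ω' := { toRingHom := σ, commutes' := fun a => (by
    rw [IsScalarTower.algebraMap_apply k K Ω']
    exact hσK _) }
  set u : Ω' := ξ' + algebraMap E₀ Ω' ((fun e : ℕ => (⟨s, subset_adjoin k _ ⟨none, rfl⟩⟩ : E₀) ^ e) e) * η' with hu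
  have hue : u = ξ' + s ^ e * η' := rfl
  have hσξ : σ ξ' = u := by
    rw [hue]
    simp only [ξ', η', map_sum, map_mul, hσK, hσx, mul_add, Finset.sum_add_distrib, Finset.mul_sum, Algebra.smul_def]
    congr 1
    exact Finset.sum_congr rfl fun i _ => by ring
  let L₀ : IntermediateField k Ω' := adjoin k (Set.range x' ∪ {ξ'})
  let L₁ : IntermediateField k Ω' := (adjoin E₀ {u}).restrictScalars k
  have hmap : L₀.map σk = L₁ := by
    show (adjoin k (Set.range x' ∪ {ξ'})).map σk = (adjoin E₀ {u}).restrictScalars k
    rw [adjoin_map, adjoin_adjoin_left, Set.image_union, Set.image_singleton, show σk ξ' = u from hσξ]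
    have hs : s ∈ adjoin k (σk '' Set.range x' ∪ {u}) := subset_adjoin k _ (Or.inl ⟨s, ⟨none, rfl⟩, hσs⟩)
    refine le_antisymm (adjoin_le_iff.2 (Set.union_subset ?_ ?_)) (adjoin_le_iff.2 (Set.union_subset ?_ ?_))
    · rintro _ ⟨_, ⟨(_ | i), rfl⟩, rfl⟩
      · rw [show σk (x' none) = s from hσs]; exact subset_adjoin k _ (Or.inl ⟨none, rfl⟩)
      · rw [show σk (x' (some i)) = _ from hσx i]
        have hs' : s ∈ adjoin k (Set.range x' ∪ {u}) := subset_adjoin k _ (Or.inl ⟨none, rfl⟩)
        refine add_mem (subset_adjoin k _ (Or.inl ⟨some i, rfl⟩)) (mul_mem ?_ (pow_mem hs' _))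
        rw [← IsScalarTower.algebraMap_apply]; exact IntermediateField.algebraMap_mem _ _
    · exact fun z hz => subset_adjoin k _ (Or.inr hz)
    · rintro _ ⟨(_ | i), rfl⟩
      · exact hs
      · have h1 : σk (x' (some i)) ∈ adjoin k (σk '' Set.range x' ∪ {u}) := subset_adjoin k _ (Or.inl ⟨_, ⟨some i, rfl⟩, rfl⟩)
        have h2 : algebraMap K Ω' (algebraMap k K (c i)) ∈ adjoin k (σk '' Set.range x' ∪ {u}) := by
          rw [← IsScalarTower.algebraMap_apply]; exact IntermediateField.algebraMap_mem _ _
        have := sub_mem h1 (mul_mem h2 (pow_mem hs e))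
        rw [show σk (x' (some i)) = _ from hσx i, add_sub_cancel_right] at this
        exact this
    · exact fun z hz => subset_adjoin k _ (Or.inr hz)
  have hσmem : ∀ a ∈ L₀, σ a ∈ adjoin E₀ {u} := fun a ha => by
    have h : σk a ∈ L₀.map σk := ⟨a, ha, rfl⟩
    rw [hmap] at h
    exact h
  -- descend
  let L := adjoin k (Set.range x ∪ {ξ})
  have hjL : ∀ a ∈ L, jk a ∈ L₀ := fun a ha => by
    have h1 : jk a ∈ L.map jk := ⟨a, ha, rfl⟩
    rw [adjoin_map, Set.image_union, Set.image_singleton, show jk ξ = ξ' from hjξ] at h1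
    refine adjoin.mono k _ _ (Set.union_subset_union_left _ ?_) h1
    rintro _ ⟨_, ⟨i, rfl⟩, rfl⟩
    exact ⟨some i, (hjx i).symm⟩
  have hβ' : IsSeparable L₀ (j β) := isSeparable_map j.toRingHom hjL hβ
  have hσβ : σ (j β) ∈ L₁ := ht _ (isSeparable_map σ (L₂ := adjoin E₀ {u}) hσmem hβ')
  rw [← hmap] at hσβ
  obtain ⟨b, hb, hbe⟩ := hσβ
  have hjβ : j β ∈ L₀ := by rw [← σ.injective hbe]; exact hb
  -- eliminate the new variable
  have hL₀ : L₀ ≤ (adjoin (L.map jk) {s}).restrictScalars k := by
    rw [adjoin_map, adjoin_adjoin_left, Set.image_union, Set.image_singleton, show jk ξ = ξ' from hjξ]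
    refine adjoin_le_iff.2 (Set.union_subset ?_ ?_)
    · rintro _ ⟨(_ | i), rfl⟩
      · exact subset_adjoin k _ (Or.inr rfl)
      · exact subset_adjoin k _ (Or.inl (Or.inl ⟨x i, ⟨i, rfl⟩, hjx i⟩))
    · exact fun z hz => subset_adjoin k _ (Or.inl (Or.inr hz))
  let D : IntermediateField k Ω' := jk.fieldRange
  have hsD : Transcendental D s := fun h => hsK
    (isAlgebraic_mono (L₂ := (adjoin K (x' '' {none}ᶜ)).restrictScalars k) (by rintro _ ⟨z, rfl⟩; exact hrange z) h)
  have hsub : L.map jk ≤ D := by rintro _ ⟨z, -, rfl⟩; exact ⟨z, rfl⟩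
  obtain ⟨a, b, hab⟩ := (mem_adjoin_simple_iff (L.map jk) (j β)).1 (hL₀ hjβ)
  let D' := IntermediateField.inclusion hsub
  let βD : D := ⟨j β, ⟨β, rfl⟩⟩
  rcases eq_or_ne (Polynomial.aeval s b) 0 with hb0 | hb0
  · rw [hb0, div_zero] at hab
    rw [(map_eq_zero_iff j j.injective).1 hab]
    exact zero_mem _
  rw [eq_div_iff hb0] at hab
  have hpoly : Polynomial.C βD * b.map D'.toRingHom = a.map D'.toRingHom := by
    refine transcendental_iff_injective.1 hsD ?_
    simp only [map_mul, Polynomial.aeval_def, Polynomial.eval₂_map, Polynomial.eval₂_C]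
    exact hab
  obtain ⟨i, hi⟩ : ∃ i, b.coeff i ≠ 0 := by
    by_contra h; push Not at h
    exact hb0 (by rw [show b = 0 from Polynomial.ext fun i => by simpa using h i, map_zero])
  have hco := congrArg (fun p : Polynomial D => ((p.coeff i : D) : Ω')) hpoly
  simp only [Polynomial.coeff_C_mul, Polynomial.coeff_map] at hco
  have hjmem : j β ∈ L.map jk := by
    have hb1 : ((b.coeff i : L.map jk) : Ω') ≠ 0 := fun h => hi (Subtype.ext h)
    have : j β = ((a.coeff i : L.map jk) : Ω') / ((b.coeff i : L.map jk) : Ω') := by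
      rw [eq_div_iff hb1]; exact hco
    rw [this]
    exact div_mem (a.coeff i).2 (b.coeff i).2
  obtain ⟨z, hz, hze⟩ := hjmem
  rw [← j.injective hze]
  exact hz

end Groth.Agent.SepPencil
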