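import Mathlib
import Groth.Agent.FieldFG.Basic

/-!
# Separably closed subfields, rational function fields and pencils
-/

set_option autoImplicit false

universe u v
open IntermediateField
open scoped IntermediateField.algebraAdjoinAdjoin
noncomputable section

namespace Groth.Agent.SepPencil

variable {E : Type u} {Ω : Type v} [Field E] [Field Ω] [Algebra E Ω]

/-- Algebraicity over a larger subfield. -/
lemma isAlgebraic_mono {L₁ L₂ : IntermediateField E Ω} (h : L₁ ≤ L₂) {a : Ω} (ha : IsAlgebraic L₁ a) :
    IsAlgebraic L₂ a := by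
  letI := (IntermediateField.inclusion h).toRingHom.toAlgebra
  haveI : IsScalarTower L₁ L₂ Ω := IsScalarTower.of_algebraMap_eq fun _ => rfl
  exact ha.tower_top L₂

/-- Algebraicity over a generated field is algebraicity over the generated algebra. -/
lemma isAlgebraic_adjoin_iff {s : Set Ω} {a : Ω} :
    IsAlgebraic (adjoin E s) a ↔ IsAlgebraic (Algebra.adjoin E s) a :=
  (IsFractionRing.isAlgebraic_iff (Algebra.adjoin E s) (adjoin E s) Ω).symm

lemma transcendental_adjoin {s : Set Ω} {a : Ω} (h : Transcendental (Algebra.adjoin E s) a) :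
    Transcendental (adjoin E s) a := fun h' => h (isAlgebraic_adjoin_iff.1 h')

lemma transcendental_adjoin' {s : Set Ω} {a : Ω} (h : Transcendental (adjoin E s) a) :
    Transcendental (Algebra.adjoin E s) a := fun h' => h (isAlgebraic_adjoin_iff.2 h')

/-- Exchange. -/
lemma transcendental_swap {a b : Ω} (ha : Transcendental E a) (hb : Transcendental (adjoin E {a}) b) :
    Transcendental (adjoin E {b}) a := by
  have hx : AlgebraicIndependent E (fun _ : Unit => a) := algebraicIndependent_unique_type_iff.2 ha
  have hb' : Transcendental (Algebra.adjoin E (Set.range fun _ : Unit => a)) b := by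
    rw [Set.range_const]; exact transcendental_adjoin' hb
  have h : AlgebraicIndependent E (fun o : Option Unit => o.elim b fun _ => a) :=
    AlgebraicIndependent.option_iff.2 ⟨hx, hb'⟩
  have h2 : AlgebraicIndependent E (fun o : Option Unit => o.elim a fun _ => b) := by
    have h3 := h.comp (fun o : Option Unit => o.elim (some ()) fun _ => none) (by rintro (_ | _) (_ | _) h <;> simp_all)
    convert h3 using 1
    funext o; rcases o with _ | _ <;> rfl
  have h4 := (AlgebraicIndependent.option_iff.1 h2).2
  rw [Set.range_const] at h4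
  exact transcendental_adjoin h4

/-- Separability is transported by homomorphisms. -/
lemma isSeparable_map {E' : Type u} {Ω' : Type v} [Field E'] [Field Ω'] [Algebra E' Ω'] (f : Ω →+* Ω')
    {L₁ : IntermediateField E Ω} {L₂ : IntermediateField E' Ω'} (h : ∀ a ∈ L₁, f a ∈ L₂) {β : Ω}
    (hβ : IsSeparable L₁ β) : IsSeparable L₂ (f β) := by
  let g : L₁ →+* L₂ := (f.comp (L₁.toSubfield.subtype)).codRestrict L₂.toSubfield fun a => h a.1 a.2
  let p := (minpoly L₁ β).map g
  have hp : Polynomial.aeval (f β) p = 0 := by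
    rw [Polynomial.aeval_def, Polynomial.eval₂_map,
      show (algebraMap L₂ Ω').comp g = f.comp (algebraMap L₁ Ω) from rfl, ← Polynomial.hom_eval₂,
      ← Polynomial.aeval_def, minpoly.aeval, map_zero]
  exact (Polynomial.Separable.map hβ).of_dvd (minpoly.dvd L₂ (f β) hp)

lemma isSeparable_mono {L₁ L₂ : IntermediateField E Ω} (h : L₁ ≤ L₂) {β : Ω} (hβ : IsSeparable L₁ β) :
    IsSeparable L₂ β :=
  isSeparable_map (RingHom.id Ω) h hβ

open Polynomial in
/-- Coefficients of polynomials which are algebraic over polynomials with coefficients below. -/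
lemma isAlgebraic_coeff {R S : Type*} [Field R] [Field S] [Algebra R S] :
    ∀ (n : ℕ) (f : S[X]), f.natDegree ≤ n →
      (∃ P : (R[X])[X], P ≠ 0 ∧ Polynomial.eval₂ (mapRingHom (algebraMap R S)) f P = 0) →
      ∀ i, IsAlgebraic R (f.coeff i) := by
  intro n
  induction n using Nat.strong_induction_on with
  | _ n ih =>
    intro f hf hP
    have hu : Function.Injective (mapRingHom (algebraMap R S)) := Polynomial.map_injective _ (algebraMap R S).injective
    -- a relation not divisible by the variable
    obtain ⟨P, ⟨j, hj⟩, hPf⟩ : ∃ P : (R[X])[X], (∃ j, (P.coeff j).coeff 0 ≠ 0) ∧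
        Polynomial.eval₂ (mapRingHom (algebraMap R S)) f P = 0 := by
      obtain ⟨P, hP0, hPf⟩ := hP
      obtain ⟨j, hj⟩ : ∃ j, P.coeff j ≠ 0 := by
        by_contra h; push Not at h; exact hP0 (Polynomial.ext fun j => by simpa using h j)
      suffices H : ∀ (m : ℕ) (P : (R[X])[X]), P.coeff j ≠ 0 → (P.coeff j).natDegree ≤ m →
          Polynomial.eval₂ (mapRingHom (algebraMap R S)) f P = 0 →
          ∃ Q : (R[X])[X], (∃ j, (Q.coeff j).coeff 0 ≠ 0) ∧ Polynomial.eval₂ (mapRingHom (algebraMap R S)) f Q = 0 from
        H _ P hj le_rfl hPf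
      intro m
      induction m with
      | zero =>
        intro P hj hm hPf
        refine ⟨P, ⟨j, fun h0 => hj ?_⟩, hPf⟩
        rw [eq_C_of_natDegree_le_zero hm, h0, map_zero]
      | succ m ihm =>
        intro P hj hm hPf
        by_cases h : ∃ j, (P.coeff j).coeff 0 ≠ 0
        · exact ⟨P, h, hPf⟩
        push Not at h
        have hdvd : C (X : R[X]) ∣ P := C_dvd_iff_dvd_coeff _ _ |>.2 fun i => X_dvd_iff.2 (h i)
        obtain ⟨Q, rfl⟩ := hdvd
        rw [coeff_C_mul] at hj hm
        rw [eval₂_mul, eval₂_C, coe_mapRingHom, map_X, mul_eq_zero, or_iff_right X_ne_zero] at hPf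
        refine ihm Q (right_ne_zero_of_mul hj) ?_ hPf
        rw [natDegree_mul X_ne_zero (right_ne_zero_of_mul hj), natDegree_X] at hm
        omega
    have h0 : IsAlgebraic R (f.coeff 0) := by
      refine ⟨P.map (Polynomial.evalRingHom 0), fun e => hj ?_, ?_⟩
      · have := congrArg (Polynomial.coeff · j) e
        simpa [coeff_zero_eq_eval_zero] using this
      · have e := congrArg (Polynomial.evalRingHom (0 : S)) hPf
        rw [map_zero, hom_eval₂] at e
        rw [Polynomial.aeval_def, eval₂_map]
        refine Eq.trans ?_ e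
        congr 1
        · refine Polynomial.ringHom_ext (fun a => by simp) (by simp)
        · simp [coeff_zero_eq_eval_zero]
    intro i
    rcases Nat.eq_zero_or_pos n with hn | hn
    · rcases Nat.eq_zero_or_pos i with rfl | hi
      · exact h0
      · rw [coeff_eq_zero_of_natDegree_lt (by omega)]; exact isAlgebraic_zero
    obtain ⟨q, hq0, hq⟩ := h0
    -- relation for the quotient by the variable
    rcases i with _ | i
    · exact ⟨q, hq0, hq⟩
    rw [← coeff_divX]
    refine ih (n - 1) (by omega) f.divX (by rw [natDegree_divX_eq_natDegree_tsub_one]; omega) ?_ i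
    letI : Algebra R[X] S[X] := (mapRingHom (algebraMap R S)).toAlgebra
    have hf' : IsAlgebraic R[X] f := by
      obtain ⟨P', hP', hPf'⟩ := hP
      exact ⟨P', hP', hPf'⟩
    have hc : IsAlgebraic R[X] (C (f.coeff 0) : S[X]) := by
      refine ⟨q.map Polynomial.C, (Polynomial.map_ne_zero_iff C_injective).2 hq0, ?_⟩
      rw [Polynomial.aeval_def, eval₂_map,
        show (algebraMap R[X] S[X]).comp C = (C : S →+* S[X]).comp (algebraMap R S) from RingHom.ext fun a => by
          simp [RingHom.algebraMap_toAlgebra], ← hom_eval₂, ← Polynomial.aeval_def, hq, map_zero]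
    obtain ⟨Q, hQ0, hQ⟩ : IsAlgebraic R[X] (X * f.divX : S[X]) := by
      rw [show X * f.divX = f - C (f.coeff 0) from eq_sub_of_add_eq (X_mul_divX_add f)]
      exact hf'.sub hc
    refine ⟨Q.comp (C X * X), fun e => hQ0 ?_, ?_⟩
    · rcases Polynomial.comp_eq_zero_iff.1 e with h | ⟨-, h⟩
      · exact h
      · have := congrArg (Polynomial.coeff · 1) h
        simp at this
    · rw [eval₂_comp, eval₂_mul, eval₂_C, eval₂_X, coe_mapRingHom, map_X]
      exact hQ

/-- Purely inseparable and separable elements are rational. -/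
lemma mem_of_isSeparable_of_mem_perfectClosure {a : Ω} (h1 : IsSeparable E a) (h2 : a ∈ perfectClosure E Ω) :
    a ∈ (⊥ : IntermediateField E Ω) := by
  rw [← separableClosure_inf_perfectClosure E Ω]
  exact ⟨mem_separableClosure_iff.2 h1, h2⟩

/-- If `E` is separably closed in `K` then `E(t)` is separably closed in `K(t)`. -/
theorem mem_adjoin_of_isSeparable (K : IntermediateField E Ω)
    (hK : ∀ a ∈ K, IsSeparable E a → a ∈ (⊥ : IntermediateField E Ω)) {t : Ω} (ht : Transcendental K t)
    {α : Ω} (hα : α ∈ IntermediateField.adjoin K {t}) (hsep : IsSeparable (adjoin E {t}) α) :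
    α ∈ adjoin E {t} := by
  classical
  let A := Algebra.adjoin E {t}
  let B := Algebra.adjoin K {t}
  let q := ringExpChar E
  haveI : ExpChar E q := inferInstance
  haveI : ExpChar Ω q := expChar_of_injective_algebraMap (algebraMap E Ω).injective q
  haveI : ExpChar (adjoin E {t}) q := expChar_of_injective_algebraMap (algebraMap E (adjoin E {t})).injective q
  -- integral multiple
  have halg : IsAlgebraic A α := isAlgebraic_adjoin_iff.1 hsep.isIntegral.isAlgebraic
  obtain ⟨c, hc0, hcint⟩ := halg.exists_integral_multiple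
  let ι : Polynomial K →ₐ[K] Ω := Polynomial.aeval t
  have hι : Function.Injective ι := transcendental_iff_injective.1 ht
  obtain ⟨a, b, hab⟩ := (IntermediateField.mem_adjoin_simple_iff K α).1 hα
  obtain ⟨pc, hpc⟩ : ∃ pc : Polynomial E, (Polynomial.aeval t pc : Ω) = (c : Ω) := by
    have h : (c : Ω) ∈ Algebra.adjoin E {t} := c.2
    rw [Algebra.adjoin_singleton_eq_range_aeval] at h
    exact h
  have hcΩ : (c : Ω) ≠ 0 := fun h => hc0 (Subtype.ext h)
  obtain ⟨g, hg⟩ : ∃ g : Polynomial K, ι g = (c : Ω) * α := by
    let Q := FractionRing (Polynomial K)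
    let φ : Q →ₐ[K] Ω := IsFractionRing.liftAlgHom hι
    have hφ : ∀ p, φ (algebraMap (Polynomial K) Q p) = ι p := fun p => IsFractionRing.lift_algebraMap hι p
    let y : Q := algebraMap (Polynomial K) Q (pc.map (algebraMap E K)) *
      (algebraMap (Polynomial K) Q a / algebraMap (Polynomial K) Q b)
    have hy : φ y = (c : Ω) * α := by
      rw [map_mul, map_div₀, hφ, hφ, hφ]
      simp only [ι, Polynomial.aeval_map_algebraMap, hpc]
      rw [← hab]
    have hyint : IsIntegral (Polynomial K) y := by
      obtain ⟨P, hP, hPe⟩ := hcint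
      have hsurj : Function.Surjective (AlgHom.codRestrict (Polynomial.aeval t : Polynomial E →ₐ[E] Ω) A
          fun p => Polynomial.aeval_mem_adjoin_singleton E t) := by
        rintro ⟨z, hz⟩
        have hz' := hz
        simp only [A, Algebra.adjoin_singleton_eq_range_aeval] at hz'
        obtain ⟨p, hp⟩ := hz'
        exact ⟨p, Subtype.ext hp⟩
      obtain ⟨P', hP'map, -, hP'⟩ := Polynomial.lifts_and_degree_eq_and_monic
        ((Polynomial.lifts_iff_coeff_lifts P).2 fun n => hsurj (P.coeff n)) hP
      refine ⟨P'.map (Polynomial.mapRingHom (algebraMap E K)), hP'.map _, φ.toRingHom.injective ?_⟩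
      rw [map_zero, Polynomial.hom_eval₂, Polynomial.eval₂_map, show φ.toRingHom y = (c : Ω) * α from hy]
      refine Eq.trans ?_ ((congrArg (fun z => Polynomial.eval₂ (algebraMap A Ω) z P) (Algebra.smul_def c α)).symm.trans hPe)
      rw [← hP'map, Polynomial.eval₂_map]
      congr 1
      refine RingHom.ext fun p => ?_
      show φ (algebraMap (Polynomial K) Q (p.map (algebraMap E K))) = Polynomial.aeval t p
      rw [hφ]
      exact Polynomial.aeval_map_algebraMap K t p
    obtain ⟨g, hg⟩ := (IsIntegrallyClosed.isIntegral_iff).1 hyint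
    exact ⟨g, by rw [← hy, ← hg, hφ]⟩
  -- relation for g
  have hgalg : IsAlgebraic A (ι g) := by
    rw [hg]; exact (isAlgebraic_algebraMap c).mul halg
  have hgcoef : ∀ i, IsAlgebraic E (g.coeff i) := by
    obtain ⟨P, hP0, hP⟩ := hgalg
    have hsurj : Function.Surjective (AlgHom.codRestrict (Polynomial.aeval t : Polynomial E →ₐ[E] Ω) A
        fun p => Polynomial.aeval_mem_adjoin_singleton E t) := by
      rintro ⟨z, hz⟩
      have hz' := hz
      simp only [A, Algebra.adjoin_singleton_eq_range_aeval] at hz'
      obtain ⟨p, hp⟩ := hz'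
      exact ⟨p, Subtype.ext hp⟩
    obtain ⟨P', rfl⟩ := Polynomial.map_surjective (AlgHom.codRestrict (Polynomial.aeval t : Polynomial E →ₐ[E] Ω) A
        fun p => Polynomial.aeval_mem_adjoin_singleton E t).toRingHom hsurj P
    refine isAlgebraic_coeff g.natDegree g le_rfl ⟨P', fun h => hP0 (by rw [h, Polynomial.map_zero]), hι ?_⟩
    show ι.toRingHom _ = ι.toRingHom 0
    rw [map_zero, Polynomial.hom_eval₂]
    rw [Polynomial.aeval_def, Polynomial.eval₂_map] at hP
    refine Eq.trans ?_ hP
    congr 1
    refine RingHom.ext fun p => ?_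
    exact Polynomial.aeval_map_algebraMap K t p
  -- the coefficients are purely inseparable over `E`
  have hcoef : ∀ i, ((g.coeff i : K) : Ω) ∈ perfectClosure (adjoin E {t}) Ω := fun i => by
    let C' := algebraicClosure E K
    have hbot : separableClosure E C' = ⊥ := by
      refine eq_bot_iff.2 fun x hx => ?_
      have h1 : IsSeparable E (((x : K) : Ω)) := by
        have h3 : minpoly E ((K.val.comp C'.val) x) = minpoly E x :=
          minpoly.algHom_eq _ (K.val.comp C'.val).injective x
        show (minpoly E ((K.val.comp C'.val) x)).Separable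
        rw [h3]
        exact mem_separableClosure_iff.1 hx
      obtain ⟨e, he⟩ := IntermediateField.mem_bot.1 (hK _ (x : K).2 h1)
      exact IntermediateField.mem_bot.2 ⟨e, Subtype.ext (Subtype.ext he)⟩
    haveI : IsPurelyInseparable E C' := by
      haveI : IsPurelyInseparable (separableClosure E C') C' := separableClosure.isPurelyInseparable E C'
      rw [← separableClosure.eq_bot_iff]
      exact hbot
    obtain ⟨N, e, he⟩ := IsPurelyInseparable.pow_mem E q (⟨g.coeff i, mem_algebraicClosure_iff.2 (hgcoef i)⟩ : C')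
    rw [mem_perfectClosure_iff_pow_mem q]
    refine ⟨N, algebraMap E (adjoin E {t}) e, ?_⟩
    have h5 := congrArg (fun z : C' => ((z : K) : Ω)) he
    simp only [IntermediateField.coe_pow] at h5
    rw [← h5, ← IsScalarTower.algebraMap_apply]
    rfl
  have ht' : t ∈ perfectClosure (adjoin E {t}) Ω := by
    exact (perfectClosure (adjoin E {t}) Ω).algebraMap_mem (⟨t, mem_adjoin_simple_self E t⟩ : adjoin E {t})
  have hcl : ι g ∈ perfectClosure (adjoin E {t}) Ω := by
    simp only [ι, Polynomial.aeval_eq_sum_range, Algebra.smul_def]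
    exact sum_mem fun i _ => mul_mem (hcoef i) (pow_mem ht' i)
  have hcmem : (c : Ω) ∈ adjoin E {t} := algebra_adjoin_le_adjoin E _ c.2
  have hαcl : α ∈ perfectClosure (adjoin E {t}) Ω := by
    rw [show α = (c : Ω)⁻¹ * ι g by rw [hg, ← mul_assoc, inv_mul_cancel₀ hcΩ, one_mul]]
    exact mul_mem (inv_mem ((perfectClosure (adjoin E {t}) Ω).algebraMap_mem (⟨c, hcmem⟩ : adjoin E {t}))) hcl
  obtain ⟨z, hz⟩ := IntermediateField.mem_bot.1 (mem_of_isSeparable_of_mem_perfectClosure hsep hαcl)
  rw [← hz]
  exact z.2

end Groth.Agent.SepPencil
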