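import Groth.Agent.SepPencil.Basic

/-!
# Zariski's lemma on pencils
-/

set_option autoImplicit false

universe u v
open IntermediateField
open scoped IntermediateField.algebraAdjoinAdjoin
noncomputable section

namespace Groth.Agent.SepPencil

variable {E : Type u} {Ω : Type v} [Field E] [Field Ω] [Algebra E Ω]

/-- There are finitely many intermediate fields separable over a subfield. -/
lemma finite_le_separable [Algebra.EssFiniteType E Ω] (M : IntermediateField E Ω) :
    {F : IntermediateField E Ω | M ≤ F ∧ ∀ a ∈ F, IsSeparable M a}.Finite := by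
  haveI : Algebra.EssFiniteType M Ω := Algebra.EssFiniteType.of_comp E M Ω
  haveI := FieldFG.finite_algebraicClosure M Ω
  let S := separableClosure M Ω
  have hle : S ≤ algebraicClosure M Ω := fun a ha =>
    mem_algebraicClosure_iff.2 (mem_separableClosure_iff.1 ha).isIntegral.isAlgebraic
  haveI : FiniteDimensional M S :=
    Module.Finite.of_injective (IntermediateField.inclusion hle).toLinearMap (IntermediateField.inclusion hle).injective
  haveI : Finite (IntermediateField M S) :=
    Field.finite_intermediateField_of_exists_primitive_element M S (Field.exists_primitive_element M S)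
  refine (Set.finite_range fun F : IntermediateField M S => (IntermediateField.lift F).restrictScalars E).subset ?_
  rintro F ⟨hMF, hF⟩
  have hFS : extendScalars hMF ≤ S := fun a ha => mem_separableClosure_iff.2 (hF a (mem_extendScalars hMF |>.1 ha))
  exact ⟨IntermediateField.restrict hFS, by simp [IntermediateField.lift_restrict]⟩

/-- The subfield of elements separable over a given subfield. -/
def sepOver (L : IntermediateField E Ω) : IntermediateField E Ω := (separableClosure L Ω).restrictScalars E

lemma mem_sepOver {L : IntermediateField E Ω} {a : Ω} : a ∈ sepOver L ↔ IsSeparable L a := by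
  rw [sepOver, mem_restrictScalars, mem_separableClosure_iff]

lemma le_sepOver (L : IntermediateField E Ω) : L ≤ sepOver L := fun a ha => mem_sepOver.2
  (isSeparable_algebraMap (⟨a, ha⟩ : L))

/-- An element transcendental over a subfield is transcendental over its separable closure. -/
lemma transcendental_sepOver {L : IntermediateField E Ω} {a : Ω} (ha : Transcendental L a) :
    Transcendental (sepOver L) a := by
  intro h
  refine ha ?_
  haveI : Algebra.IsAlgebraic L (separableClosure L Ω) := inferInstance
  have h' : IsAlgebraic (separableClosure L Ω) a := h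
  exact h'.restrictScalars L

/-- In a pencil some member is separably closed. -/
theorem exists_separably_closed [Algebra.EssFiniteType E Ω]
    (hE : ∀ a : Ω, IsSeparable E a → a ∈ (⊥ : IntermediateField E Ω)) (ξ η : Ω)
    (hη : Transcendental E η) (hξ : Transcendental (adjoin E {η}) ξ) (T : Set E) (hT : T.Infinite) :
    ∃ t ∈ T, ∀ β : Ω, IsSeparable (adjoin E {ξ + algebraMap E Ω t * η}) β →
      β ∈ adjoin E {ξ + algebraMap E Ω t * η} := by
  classical
  let u : E → Ω := fun t => ξ + algebraMap E Ω t * η
  let M : IntermediateField E Ω := adjoin E {ξ, η}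
  let F : E → IntermediateField E Ω := fun t => sepOver (adjoin E {u t}) ⊔ adjoin E {η}
  have hmemξ : ξ ∈ M := subset_adjoin E _ (by simp)
  have hmemη : η ∈ M := subset_adjoin E _ (by simp)
  have huM : ∀ t, adjoin E {u t} ≤ M := fun t => adjoin_le_iff.2 (by
    rintro _ rfl
    exact add_mem hmemξ (mul_mem (M.algebraMap_mem t) hmemη))
  have hmem : ∀ t, F t ∈ {F : IntermediateField E Ω | M ≤ F ∧ ∀ a ∈ F, IsSeparable M a} := by
    intro t
    constructor
    · refine adjoin_le_iff.2 ?_
      have h1 : u t ∈ F t := le_sup_left (a := sepOver (adjoin E {u t})) (le_sepOver _ (mem_adjoin_simple_self E _))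
      have h2 : η ∈ F t := le_sup_right (a := sepOver (adjoin E {u t})) (mem_adjoin_simple_self E _)
      rintro x (rfl | rfl)
      · have := sub_mem h1 (mul_mem ((F t).algebraMap_mem t) h2)
        simpa [u] using this
      · exact h2
    · intro a ha
      have hle : F t ≤ sepOver M := by
        refine sup_le (fun b hb => mem_sepOver.2 (isSeparable_mono (huM t) (mem_sepOver.1 hb))) ?_
        exact (adjoin_le_iff.2 (by rintro _ rfl; exact le_sepOver M hmemη))
      exact mem_sepOver.1 (hle ha)
  haveI := hT.to_subtype
  haveI := (finite_le_separable M).to_subtype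
  obtain ⟨t, s, hts, hFeq⟩ := Finite.exists_ne_map_eq_of_infinite
    (fun t : T => (⟨F t.1, hmem t.1⟩ : {F : IntermediateField E Ω | M ≤ F ∧ ∀ a ∈ F, IsSeparable M a}))
  refine ⟨t.1, t.2, fun β hβ => ?_⟩
  have hFts : F t.1 = F s.1 := congrArg Subtype.val hFeq
  have hne : algebraMap E Ω t.1 - algebraMap E Ω s.1 ≠ 0 :=
    sub_ne_zero.2 fun h => hts (Subtype.ext ((algebraMap E Ω).injective h))
  let G := sepOver (adjoin E {u s.1})
  -- the parameter is transcendental over `G`
  have hv : Transcendental (adjoin E {η}) (u s.1) := by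
    intro h
    refine hξ ?_
    have hmem : algebraMap E Ω s.1 * η ∈ adjoin E {η} :=
      mul_mem ((adjoin E {η}).algebraMap_mem _) (mem_adjoin_simple_self E η)
    simpa [u] using h.sub (isAlgebraic_algebraMap (⟨_, hmem⟩ : adjoin E {η}) : IsAlgebraic (adjoin E {η}) (algebraMap E Ω s.1 * η))
  have hηv : Transcendental (adjoin E {u s.1}) η := transcendental_swap hη hv
  have hutv : u t.1 = u s.1 + (algebraMap E Ω t.1 - algebraMap E Ω s.1) * η := by simp only [u]; ring
  have hu : Transcendental (adjoin E {u s.1}) (u t.1) := by
    intro h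
    refine hηv ?_
    have h1 : (algebraMap E Ω t.1 - algebraMap E Ω s.1) * η = u t.1 - u s.1 := by rw [hutv]; ring
    have h2 : η = algebraMap E Ω (t.1 - s.1)⁻¹ * (u t.1 - u s.1) := by
      rw [← h1, map_inv₀, map_sub, ← mul_assoc, inv_mul_cancel₀ hne, one_mul]
    rw [h2]
    refine IsAlgebraic.mul ?_ (h.sub ?_)
    · exact isAlgebraic_algebraMap (algebraMap E (adjoin E {u s.1}) (t.1 - s.1)⁻¹)
    · exact isAlgebraic_algebraMap (⟨_, mem_adjoin_simple_self E (u s.1)⟩ : adjoin E {u s.1})
  have huG : Transcendental G (u t.1) := transcendental_sepOver hu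
  have hle : F s.1 ≤ (adjoin G {u t.1}).restrictScalars E := by
    have hG : G ≤ (adjoin G {u t.1}).restrictScalars E := fun a ha =>
      (adjoin G {u t.1}).algebraMap_mem (⟨a, ha⟩ : G)
    refine sup_le hG (adjoin_le_iff.2 (Set.singleton_subset_iff.2 ?_))
    have h1 : u t.1 ∈ (adjoin G {u t.1}).restrictScalars E := mem_adjoin_simple_self G _
    have h2 : u s.1 ∈ (adjoin G {u t.1}).restrictScalars E := hG (le_sepOver _ (mem_adjoin_simple_self E _))
    have h3 : η = algebraMap E Ω (t.1 - s.1)⁻¹ * (u t.1 - u s.1) := by
      rw [hutv, add_sub_cancel_left, map_inv₀, map_sub, ← mul_assoc, inv_mul_cancel₀ hne, one_mul]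
    rw [SetLike.mem_coe, h3]
    exact mul_mem (IntermediateField.algebraMap_mem _ _) (sub_mem h1 h2)
  have hβG : β ∈ adjoin G {u t.1} := hle (hFts ▸ le_sup_left (a := sepOver (adjoin E {u t.1})) (mem_sepOver.2 hβ))
  exact mem_adjoin_of_isSeparable G (fun a _ h => hE a h) huG hβG hβ

end Groth.Agent.SepPencil
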